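import Groth.Agent.UnipOrbit.Basic
import Groth.Agent.GammaProd.QAGroup
import Groth.Agent.GrpAct.OrbitDim
import Groth.Prelude.Def_Mor2
import Mathlib.AlgebraicGeometry.Group.Affine
import Mathlib.AlgebraicGeometry.QuasiAffine

/-!
Orbits of unipotent groups on quasi-affine schemes are closed (Rosenlicht).

A function which vanishes on the boundary of an orbit generates, through the coefficients of the action,
functions vanishing at a given boundary point; the unipotence provides one of them equal to one on the orbit.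
-/

set_option autoImplicit false
set_option backward.isDefEq.respectTransparency false
set_option linter.style.haveILetI false
set_option linter.unusedSectionVars false
set_option maxHeartbeats 1000000

universe u

open CategoryTheory CategoryTheory.Limits MonoidalCategory CartesianMonoidalCategory MonObj AlgebraicGeometry
open TensorProduct Algebra.TensorProduct
open Groth.Agent.GrpAct (orbit)
open scoped Groth.Agent.Comod

noncomputable section

namespace Groth.Agent.UnipQA

variable {k : Type u} [Field k] {A : Type u} [CommRing A] [HopfAlgebra k A]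

abbrev grp (k A : Type u) [Field k] [CommRing A] [HopfAlgebra k A] : Over (Spec (CommRingCat.of k)) :=
  (Spec (CommRingCat.of A)).asOver (Spec (CommRingCat.of k))

/-- The functions of a spectrum. -/
def ev (R : Type u) [CommRing R] : Γ(Spec (CommRingCat.of R), ⊤) →+* R :=
  (Scheme.ΓSpecIso (CommRingCat.of R)).hom.hom

theorem ev_map {R R' : Type u} [CommRing R] [CommRing R'] (φ : R →+* R')
    (z : Γ(Spec (CommRingCat.of R), ⊤)) : ev R' ((Spec.map (CommRingCat.ofHom φ)).appTop z) = φ (ev R z) :=
  congr($(Scheme.ΓSpecIso_naturality (CommRingCat.ofHom φ)).hom z)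

theorem ev_bijective (R : Type u) [CommRing R] : Function.Bijective (ev R) :=
  ConcreteCategory.bijective_of_isIso (Scheme.ΓSpecIso (CommRingCat.of R)).hom

/-- The constants on a scheme over `k`. -/
def sk (X : Over (Spec (CommRingCat.of k))) : k →+* Γ(X.left, ⊤) :=
  X.hom.appTop.hom.comp (Scheme.ΓSpecIso (CommRingCat.of k)).inv.hom

theorem appTop_sk {T X : Over (Spec (CommRingCat.of k))} (f : T ⟶ X) (c : k) :
    f.left.appTop (sk X c) = sk T c := by
  show f.left.appTop (X.hom.appTop _) = T.hom.appTop _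
  rw [← GammaProd.appTop_comp_apply, Over.w]

theorem ev_sk {R : Type u} [CommRing R] [Algebra k R] (c : k) :
    ev R (sk (Over.mk (Spec.map (CommRingCat.ofHom (algebraMap k R)))) c) = algebraMap k R c := by
  show ev R ((Spec.map (CommRingCat.ofHom (algebraMap k R))).appTop _) = _
  rw [ev_map]
  exact congrArg _ (Iso.inv_hom_id_apply _ _)

/-- The pair of tautological points of the group with values in `A ⊗ A`. -/
theorem lift_mul_left (q₁ q₂ : Over.mk (Spec.map (CommRingCat.ofHom (algebraMap k (A ⊗[k] A)))) ⟶ grp k A)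
    (h₁ : q₁.left = Spec.map (CommRingCat.ofHom includeLeftRingHom))
    (h₂ : q₂.left = Spec.map (CommRingCat.ofHom
      (Algebra.TensorProduct.includeRight : A →ₐ[k] A ⊗[k] A).toRingHom)) :
    (q₁ * q₂).left = Spec.map (CommRingCat.ofHom (Bialgebra.comulAlgHom k A).toRingHom) := by
  rw [Hom.mul_def, Over.comp_left, mul_spec_asOver_spec_left]
  have e : (lift q₁ q₂).left = (pullbackSpecIso k A A).inv := by
    apply pullback.hom_ext
    · exact ((congrArg (fun f => f.left) (lift_fst q₁ q₂)).trans h₁).trans (pullbackSpecIso_inv_fst k A A).symm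
    · exact ((congrArg (fun f => f.left) (lift_snd q₁ q₂)).trans h₂).trans (pullbackSpecIso_inv_snd k A A).symm
  rw [e, Iso.inv_hom_id_assoc]
  rfl

variable {X : Over (Spec (CommRingCat.of k))}

theorem isQuasiAffine_left (hX : Mor2.IsQuasiAffine X.hom) : X.left.IsQuasiAffine := by
  haveI : ((⊤ : X.left.Opens) : Scheme.{u}).IsQuasiAffine := hX.2 ⊤ (isAffineOpen_top _)
  haveI : QuasiCompact X.hom := hX.1
  haveI : CompactSpace X.left := QuasiCompact.compactSpace_of_compactSpace X.hom
  exact Scheme.IsQuasiAffine.of_isImmersion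
    (Scheme.topIso X.left).inv

variable (a : AlgGrp.Action (grp k A) X)

/-- The action preserves an orbit and its closure, on all points. -/
theorem act_mem_iff (x : 𝟙_ (Over (Spec (CommRingCat.of k))) ⟶ X) (p : ↥(grp k A ⊗ X).left) :
    (a.act.left p ∈ orbit a x ↔ (snd (grp k A) X).left p ∈ orbit a x) ∧
    (a.act.left p ∈ closure (orbit a x) ↔ (snd (grp k A) X).left p ∈ closure (orbit a x)) := by
  haveI : Subsingleton (Spec (CommRingCat.of k)) := inferInstanceAs (Subsingleton (PrimeSpectrum k))
  haveI : Nonempty (Spec (CommRingCat.of k)) := inferInstanceAs (Nonempty (PrimeSpectrum k))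
  let T : Over (Spec (CommRingCat.of k)) :=
    Over.mk ((grp k A ⊗ X).left.fromSpecResidueField p ≫ (grp k A ⊗ X).hom)
  haveI : GrpField.IsPt T := GrpField.isPt_mk' _ _
  let π : T ⟶ grp k A ⊗ X := Over.homMk ((grp k A ⊗ X).left.fromSpecResidueField p) rfl
  obtain ⟨t⟩ : Nonempty T.left := GrpField.IsPt.nonempty T
  let w : ↥(X ⊗ T).left := (lift (π ≫ snd (grp k A) X) (𝟙 T)).left t
  have hp : π.left t = p := Scheme.fromSpecResidueField_apply p t
  have h1 : (fst X T).left w = (snd (grp k A) X).left p := by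
    rw [← Scheme.Hom.comp_apply, ← Over.comp_left, lift_fst, Over.comp_left, Scheme.Hom.comp_apply, hp]
  have h2 : (fst X T).left ((GrpAct.actT a (π ≫ fst (grp k A) X)).hom.left w) = a.act.left p := by
    rw [← Scheme.Hom.comp_apply, ← Scheme.Hom.comp_apply, ← Over.comp_left, ← Over.comp_left,
      show lift (π ≫ snd (grp k A) X) (𝟙 T) ≫ (GrpAct.actT a (π ≫ fst (grp k A) X)).hom ≫ fst X T =
          π ≫ a.act by
        simp only [GrpAct.actT, lift_fst]
        rw [GrpAct.comp_smul, lift_fst, lift_snd_assoc, Category.id_comp, ← GrpAct.comp_smul, lift_fst_snd,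
          Category.id_comp],
      Over.comp_left, Scheme.Hom.comp_apply, hp]
  have h := GrpAct.actT_mem a x (π ≫ fst (grp k A) X) w
  rwa [h1, h2] at h

variable [Algebra.FiniteType k A] [LocallyOfFiniteType X.hom]

/-- **Rosenlicht**: orbits of unipotent groups on quasi-affine schemes are closed. -/
theorem isClosed_orbit (hU : HopfRep.IsUnipotent k A) (hX : Mor2.IsQuasiAffine X.hom)
    (x : 𝟙_ (Over (Spec (CommRingCat.of k))) ⟶ X) : IsClosed (orbit a x) := by
  classical
  haveI := isQuasiAffine_left hX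
  haveI : LocallyOfFiniteType (grp k A).hom := locallyOfFiniteType_specOverSpec
  haveI : QuasiCompact (grp k A).hom :=
    inferInstanceAs (QuasiCompact (Spec.map (CommRingCat.ofHom (algebraMap k A))))
  haveI : QuasiSeparatedSpace X.left := inferInstance
  obtain ⟨W, C, hW, hC, hWC⟩ := GrpAct.isLocallyClosed_orbit' a x
  refine isClosed_of_closure_subset fun β hβ => ?_
  by_contra hβO
  have hclC : closure (orbit a x) ⊆ C := closure_minimal (hWC ▸ Set.inter_subset_right) hC
  set Bd := closure (orbit a x) ∩ Wᶜ with hBd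
  have hBdmem : ∀ z, z ∈ closure (orbit a x) → z ∉ orbit a x → z ∈ Bd := fun z h h' =>
    ⟨h, fun hzW => h' (hWC ▸ ⟨hzW, hclC h⟩)⟩
  let x₀ : X.left := (a.orbitMap x).left (η[grp k A].left (IsLocalRing.closedPoint k))
  have hx₀ : x₀ ∈ orbit a x := ⟨_, rfl⟩
  have hx₀B : x₀ ∈ Bdᶜ := fun h => h.2 (hWC ▸ hx₀ : x₀ ∈ W ∩ C).1
  obtain ⟨_, ⟨_, ⟨r, -, rfl⟩, rfl⟩, hxr, hrB⟩ :=
    (Scheme.IsQuasiAffine.isBasis_basicOpen X.left).exists_subset_of_mem_open hx₀B
      ((isClosed_closure.inter hW.isClosed_compl).isOpen_compl)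
  -- the residue field at the boundary point
  let K := X.left.residueField β
  letI : Algebra k K := (Spec.preimage (X.left.fromSpecResidueField β ≫ X.hom)).hom.toAlgebra
  have hK : Spec.map (CommRingCat.ofHom (algebraMap k K)) = X.left.fromSpecResidueField β ≫ X.hom :=
    Spec.map_preimage _
  let R := A ⊗[k] K
  let TK : Over (Spec (CommRingCat.of k)) := Over.mk (Spec.map (CommRingCat.ofHom (algebraMap k K)))
  let TR : Over (Spec (CommRingCat.of k)) := Over.mk (Spec.map (CommRingCat.ofHom (algebraMap k R)))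
  let ξ : TK ⟶ X := Over.homMk (X.left.fromSpecResidueField β) hK.symm
  let p₁ : TR ⟶ grp k A := Over.homMk (Spec.map (CommRingCat.ofHom includeLeftRingHom)) (by
    show _ ≫ Spec.map (CommRingCat.ofHom (algebraMap k A)) = Spec.map _
    rw [← Spec.map_comp, ← CommRingCat.ofHom_comp]; rfl)
  let p₂' : TR ⟶ TK := Over.homMk
    (Spec.map (CommRingCat.ofHom (Algebra.TensorProduct.includeRight : K →ₐ[k] R).toRingHom)) (by
    show _ ≫ Spec.map (CommRingCat.ofHom (algebraMap k K)) = Spec.map _
    rw [← Spec.map_comp, ← CommRingCat.ofHom_comp]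
    exact congrArg (fun g => Spec.map (CommRingCat.ofHom g))
      (Algebra.TensorProduct.includeRight : K →ₐ[k] R).comp_algebraMap)
  let iv : grp k A ⟶ grp k A := GrpObj.inv
  let m : TR ⟶ grp k A ⊗ X := lift (p₁ ≫ iv) (p₂' ≫ ξ)
  have hnil : IsNilpotent ((m ≫ a.act).left.appTop r) := by
    haveI : CompactSpace TR.left := inferInstanceAs (CompactSpace (PrimeSpectrum R))
    rw [Scheme.isNilpotent_iff_basicOpen_eq_bot]
    rw [← Scheme.preimage_basicOpen_top]
    refine bot_unique fun z hz => ?_
    have hs : (snd (grp k A) X).left (m.left z) = β := by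
      rw [← Scheme.Hom.comp_apply, ← Over.comp_left, lift_snd, Over.comp_left, Scheme.Hom.comp_apply]
      exact Scheme.fromSpecResidueField_apply _ _
    have h := act_mem_iff a x (m.left z)
    rw [hs] at h
    exact absurd (hBdmem _ (h.2.2 hβ) (fun h' => hβO (h.1.1 h'))) (hrB hz)
  obtain ⟨N, hN⟩ := hnil
  let f := r ^ (N + 1)
  have hf : (m ≫ a.act).left.appTop f = 0 := by rw [map_pow, pow_succ, hN, zero_mul]
  haveI : IsAffine (grp k A).left := inferInstanceAs (IsAffine (Spec (CommRingCat.of A)))
  haveI : Flat X.hom := inferInstance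
  obtain ⟨n, c, b, hab⟩ := GammaProd.exists_sum (p := pullback.fst (grp k A).hom X.hom)
    (q := pullback.snd (grp k A).hom X.hom) (GammaProd.flat_appTop_field X.hom)
    (IsPullback.of_hasPullback (grp k A).hom X.hom) (a.act.left.appTop f)
  have pull : ∀ {T : Over (Spec (CommRingCat.of k))} (u : T ⟶ grp k A) (v : T ⟶ X),
      (lift u v ≫ a.act).left.appTop f = ∑ i, u.left.appTop (c i) * v.left.appTop (b i) := by
    intro T u v
    rw [Over.comp_left, GammaProd.appTop_comp_apply]
    erw [hab]
    exact GammaProd.appTop_sum _ c b (by simp) (by simp)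
  let σ : Fin n → A := fun i => ev A (iv.left.appTop (c i))
  let orb : grp k A ⟶ X := iv ≫ a.orbitMap x
  let ψ : Γ(X.left, ⊤) →+* A := (ev A).comp orb.left.appTop.hom
  let κ : Γ(X.left, ⊤) →+* K := (ev K).comp ξ.left.appTop.hom
  have hψk : ∀ l, ψ (sk X l) = algebraMap k A l := fun l => by
    show ev A (orb.left.appTop (sk X l)) = _
    rw [appTop_sk]
    exact ev_sk l
  have hκk : ∀ l, κ (sk X l) = algebraMap k K l := fun l => by
    show ev K (ξ.left.appTop (sk X l)) = _
    rw [appTop_sk]
    exact ev_sk l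
  -- the coefficients vanish at `β`
  have hzero : ∑ i, σ i ⊗ₜ[k] κ (b i) = 0 := by
    have h := congrArg (ev R) ((pull (p₁ ≫ iv) (p₂' ≫ ξ)).symm.trans hf)
    rw [map_zero, map_sum] at h
    refine Eq.trans (Finset.sum_congr rfl fun i _ => ?_) h
    rw [map_mul, Over.comp_left, Over.comp_left, GammaProd.appTop_comp_apply, GammaProd.appTop_comp_apply,
      show ev R (p₁.left.appTop (iv.left.appTop (c i))) = σ i ⊗ₜ[k] (1 : K) from ev_map _ _,
      show ev R (p₂'.left.appTop (ξ.left.appTop (b i))) = (1 : A) ⊗ₜ[k] κ (b i) from ev_map _ _,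
      Algebra.TensorProduct.tmul_mul_tmul, _root_.mul_one, _root_.one_mul]
  -- the coproduct of the orbit function
  have hcomul : CoalgebraStruct.comul (R := k) (ψ f) = ∑ i, ψ (b i) ⊗ₜ[k] σ i := by
    let T₂ : Over (Spec (CommRingCat.of k)) := Over.mk (Spec.map (CommRingCat.ofHom (algebraMap k (A ⊗[k] A))))
    let q₁ : T₂ ⟶ grp k A := Over.homMk (Spec.map (CommRingCat.ofHom includeLeftRingHom)) (by
      show _ ≫ Spec.map (CommRingCat.ofHom (algebraMap k A)) = Spec.map _
      rw [← Spec.map_comp, ← CommRingCat.ofHom_comp]; rfl)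
    let q₂ : T₂ ⟶ grp k A := Over.homMk
      (Spec.map (CommRingCat.ofHom (Algebra.TensorProduct.includeRight : A →ₐ[k] A ⊗[k] A).toRingHom)) (by
      show _ ≫ Spec.map (CommRingCat.ofHom (algebraMap k A)) = Spec.map _
      rw [← Spec.map_comp, ← CommRingCat.ofHom_comp]
      exact congrArg (fun g => Spec.map (CommRingCat.ofHom g))
        (Algebra.TensorProduct.includeRight : A →ₐ[k] A ⊗[k] A).comp_algebraMap)
    have e : (q₁ * q₂) ≫ orb = lift (q₂ ≫ iv) (q₁ ≫ orb) ≫ a.act := by
      simp only [orb, iv, ← Category.assoc]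
      rw [show (q₁ * q₂) ≫ GrpObj.inv = (q₂ ≫ GrpObj.inv) * (q₁ ≫ GrpObj.inv) by
        rw [GrpObj.inv_eq_inv, GrpObj.comp_inv, GrpObj.comp_inv, GrpObj.comp_inv]
        simp only [Category.comp_id, mul_inv_rev]]
      rw [GrpAct.comp_orbitMap, GrpAct.comp_orbitMap, GrpAct.mul_smul]
    have h := congrArg (ev (A ⊗[k] A)) (pull (q₂ ≫ iv) (q₁ ≫ orb))
    rw [← e, map_sum, Over.comp_left, GammaProd.appTop_comp_apply, lift_mul_left q₁ q₂ rfl rfl] at h
    erw [ev_map] at h
    refine Eq.trans h (Finset.sum_congr rfl fun i _ => ?_)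
    rw [map_mul, Over.comp_left, Over.comp_left, GammaProd.appTop_comp_apply, GammaProd.appTop_comp_apply,
      show ev (A ⊗[k] A) (q₂.left.appTop (iv.left.appTop (c i))) = (1 : A) ⊗ₜ[k] σ i from ev_map _ _,
      show ev (A ⊗[k] A) (q₁.left.appTop (orb.left.appTop (b i))) = ψ (b i) ⊗ₜ[k] (1 : A) from ev_map _ _,
      Algebra.TensorProduct.tmul_mul_tmul, _root_.mul_one, _root_.one_mul]
  -- the subcomodule generated by the orbit function
  have hψf : ψ f ≠ 0 := by
    intro h0
    let e : Spec (CommRingCat.of k) ⟶ X.left := η[grp k A].left ≫ orb.left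
    have h1 : e.appTop f = 0 := by
      rw [GammaProd.appTop_comp_apply, show orb.left.appTop f = 0 from
        (ev_bijective A).1 (h0.trans (map_zero (ev A)).symm), map_zero]
    have h2 : e (IsLocalRing.closedPoint k) ∈ X.left.basicOpen f := by
      have he : η[grp k A] ≫ orb = η[grp k A] ≫ a.orbitMap x := by
        show η[grp k A] ≫ iv ≫ a.orbitMap x = _
        rw [← Category.assoc]
        congr 1
        exact GrpObj.one_inv
      rw [show e = η[grp k A].left ≫ (a.orbitMap x).left from congrArg (fun f => f.left) he]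
      show x₀ ∈ X.left.basicOpen f
      show x₀ ∈ X.left.basicOpen (r ^ (N + 1))
      rw [Scheme.basicOpen_pow _ _ N.succ_pos]
      exact hxr
    have h3 : IsLocalRing.closedPoint k ∈ (Spec (CommRingCat.of k)).basicOpen (e.appTop f) :=
      (Scheme.preimage_basicOpen_top e f).le h2
    rw [h1] at h3
    simp at h3
  let S : Submodule (Comod.CDual k A) A := Submodule.span _ {ψ f}
  have hne : Comod.ofDSub S ≠ ⊥ := fun h => hψf (by
    have : ψ f ∈ Comod.ofDSub S := Submodule.subset_span rfl
    rwa [h, Submodule.mem_bot] at this)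
  have h1S : (1 : A) ∈ S := UnipOrbit.exists_one_mem hU (Comod.ofDSub S) (Comod.isSubcomod_ofDSub S) hne
  obtain ⟨g, hg⟩ := Submodule.mem_span_singleton.1 h1S
  rw [Comod.dmod_smul, Comod.dact_apply] at hg
  change Comod.cR g.ofConv (CoalgebraStruct.comul (R := k) (ψ f)) = 1 at hg
  rw [hcomul, map_sum] at hg
  let bb : Γ(X.left, ⊤) := ∑ i, sk X (g.ofConv (σ i)) * b i
  have hψbb : ψ bb = 1 := by
    rw [map_sum]
    refine Eq.trans (Finset.sum_congr rfl fun i _ => ?_) hg
    rw [map_mul, hψk, Comod.cR_tmul, Algebra.smul_def]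
  have hκbb : κ bb = 0 := by
    rw [map_sum]
    have h := congrArg (Comod.cL g.ofConv) hzero
    rw [map_sum, map_zero] at h
    refine Eq.trans (Finset.sum_congr rfl fun i _ => ?_) h
    rw [map_mul, hκk, Comod.cL_tmul, Algebra.smul_def]
  -- conclusion
  have hsub : orbit a x ⊆ ((X.left.basicOpen (bb - 1) : Set X.left))ᶜ := by
    rintro _ ⟨g', rfl⟩ hmem
    haveI : IsIso iv.left := ((Over.forget _).mapIso (asIso iv)).isIso_hom
    obtain ⟨g'', rfl⟩ := iv.left.surjective g'
    have h3 : g'' ∈ (grp k A).left.basicOpen (orb.left.appTop (bb - 1)) := by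
      refine (Scheme.preimage_basicOpen_top orb.left (bb - 1)).le ?_
      exact hmem
    rw [show orb.left.appTop (bb - 1) = 0 from (ev_bijective A).1 (by
      rw [map_zero]
      show ψ (bb - 1) = 0
      rw [map_sub, hψbb, map_one, sub_self]), Scheme.basicOpen_zero] at h3
    exact h3
  have hβb := closure_minimal hsub (X.left.basicOpen (bb - 1)).2.isClosed_compl hβ
  refine hβb ?_
  let t₀ : Spec (CommRingCat.of K) := IsLocalRing.closedPoint K
  have hu : IsUnit (ξ.left.appTop (bb - 1)) := by
    have : κ (bb - 1) = -1 := by rw [map_sub, hκbb, map_one, zero_sub]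
    have h1 : ev K (ξ.left.appTop (bb - 1)) = ev K (-1) := by rw [map_neg, map_one]; exact this
    rw [(ev_bijective K).1 h1]
    exact isUnit_one.neg
  have h4 : t₀ ∈ ξ.left ⁻¹ᵁ X.left.basicOpen (bb - 1) := by
    rw [Scheme.preimage_basicOpen_top, Scheme.basicOpen_of_isUnit _ hu]
    trivial
  have h5 : ξ.left t₀ = β := Scheme.fromSpecResidueField_apply _ _
  exact h5 ▸ h4

end Groth.Agent.UnipQA
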